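import Groth.Agent.S14424
import Groth.Agent.S5151
import Mathlib

/-!
# Finiteness of sections away from codimension two over quotients of Cohen–Macaulay rings

If `B = R / P` is a domain with `R` Cohen–Macaulay, a submodule of `Frac B` all of whose elements
have denominator ideals of height at least `ht P + 2` in `R` embeds into `R / (x)` for a maximal
regular sequence `x` in `P`, hence is finite (EGA IV 5.11.1).
-/

set_option autoImplicit false
set_option linter.style.haveILetI false

universe u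

namespace Groth.Agent.HullFin

variable {R : Type u} [CommRing R] [IsNoetherianRing R]

/-- In a Cohen–Macaulay ring a prime is associated to `R / (x)` for some regular sequence `x` of
length `ht P` inside it. -/
theorem exists_regular_seq (hCM : LocCoh.IsCohenMacaulayRing R) (P : Ideal R) [hP : P.IsPrime] :
    ∃ rs : List R, RingTheory.Sequence.IsWeaklyRegular R rs ∧ (∀ r ∈ rs, r ∈ P) ∧
      (rs.length : ℕ∞) = P.height ∧
      ∃ m : R ⧸ (Ideal.ofList rs • ⊤ : Submodule R R),
        ∀ r : R, r • m = 0 ↔ r ∈ P := by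
  classical
  have hgr := (Groth.Agent.S14424.result R).1 hCM
  have hPtop : P • (⊤ : Submodule R R) ≠ ⊤ := by
    rw [show P • (⊤ : Submodule R R) = P from Ideal.mul_top P]
    exact hP.ne_top
  obtain ⟨hext, hmax⟩ := Groth.Agent.S5151.result R P R hPtop
  obtain ⟨rs, -, hreg, hmem, hm⟩ := hext [] (RingTheory.Sequence.IsWeaklyRegular.nil R R) (by simp)
  have hlen : (rs.length : ℕ∞) = P.height := (hmax rs hreg hmem hm).trans (hgr P hP.ne_top)
  refine ⟨rs, hreg, hmem, hlen, ?_⟩
  let I : Ideal R := Ideal.ofList rs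
  have hIs : (Ideal.ofList rs • ⊤ : Submodule R R) = I := Ideal.mul_top _
  have hIP : I ≤ P := Ideal.span_le.2 fun r hr => hmem r hr
  have hmin : P ∈ I.minimalPrimes := by
    refine ⟨⟨hP, hIP⟩, fun Q ⟨hQ, hIQ⟩ hQP => ?_⟩
    by_contra hPQ
    have hlt : Q < P := lt_of_le_not_ge hQP hPQ
    have h1 : Q.height < P.height := Ideal.height_strict_mono_of_isPrime hlt
    have h2 : (rs.length : ℕ∞) ≤ Q.height := by
      rw [← hgr Q hQ.ne_top, LocCoh.idealDepth, if_neg (by
        rw [show Q • (⊤ : Submodule R R) = Q from Ideal.mul_top Q]; exact hQ.ne_top)]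
      exact le_iSup₂_of_le rs ⟨hreg, fun r hr => hIQ (Ideal.subset_span hr)⟩ le_rfl
    exact (h2.trans_lt h1).ne hlen
  have hass : IsAssociatedPrime P (R ⧸ (Ideal.ofList rs • ⊤ : Submodule R R)) := by
    refine Module.associatedPrimes.minimalPrimes_annihilator_subset_associatedPrimes R
      (R ⧸ (Ideal.ofList rs • ⊤ : Submodule R R)) ?_
    rwa [hIs, Ideal.annihilator_quotient]
  obtain ⟨-, m, hm'⟩ := isAssociatedPrime_iff.1 hass
  exact ⟨m, fun r => by rw [hm', Submodule.mem_colon_singleton, Submodule.mem_bot]⟩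

/-- Extending a regular sequence inside an ideal of larger height. -/
theorem exists_pair (hCM : LocCoh.IsCohenMacaulayRing R) {rs : List R}
    (hreg : RingTheory.Sequence.IsWeaklyRegular R rs) (A : Ideal R) (hmem : ∀ r ∈ rs, r ∈ A)
    (hA : (rs.length : ℕ∞) + 2 ≤ A.height) (hne : A ≠ ⊤) :
    ∃ a ∈ A, ∃ b ∈ A, IsSMulRegular (R ⧸ (Ideal.ofList rs • ⊤ : Submodule R R)) a ∧
      IsSMulRegular (QuotSMulTop a (R ⧸ (Ideal.ofList rs • ⊤ : Submodule R R))) b := by
  have hgr := (Groth.Agent.S14424.result R).1 hCM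
  have hAtop : A • (⊤ : Submodule R R) ≠ ⊤ := by
    rw [show A • (⊤ : Submodule R R) = A from Ideal.mul_top A]; exact hne
  obtain ⟨hext, hmax⟩ := Groth.Agent.S5151.result R A R hAtop
  obtain ⟨rs', ⟨t, rfl⟩, hreg', hmem', hm⟩ := hext rs hreg hmem
  have hlen := (hmax _ hreg' hmem' hm).trans (hgr A hne)
  rw [← hlen, List.length_append, Nat.cast_add] at hA
  match t, hA, hreg', hmem' with
  | [], hA, _, _ => exact absurd hA (by norm_cast; simp)
  | [_], hA, _, _ => exact absurd hA (by norm_cast; simp)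
  | a :: b :: t', _, hreg', hmem' =>
    obtain ⟨-, h2⟩ := (RingTheory.Sequence.isWeaklyRegular_append_iff R rs (a :: b :: t')).1 hreg'
    rw [RingTheory.Sequence.isWeaklyRegular_cons_iff] at h2
    obtain ⟨ha, h2⟩ := h2
    rw [RingTheory.Sequence.isWeaklyRegular_cons_iff] at h2
    exact ⟨a, hmem' a (by simp), b, hmem' b (by simp), ha, h2.1⟩

variable {B K : Type u} [CommRing B] [IsDomain B] [CommRing K] [Algebra R B] [Algebra B K]
  [Algebra R K] [IsScalarTower R B K] [IsFractionRing B K]

/-- The denominators of `x`. -/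
def denIdeal (R : Type u) [CommRing R] (B : Type u) [CommRing B] {K : Type u} [CommRing K]
    [Algebra R B] [Algebra B K] [Algebra R K] [IsScalarTower R B K] (x : K) : Ideal R :=
  Submodule.comap (LinearMap.toSpanSingleton R K x) (LinearMap.range (IsScalarTower.toAlgHom R B K).toLinearMap)

theorem mem_denIdeal (x : K) (r : R) :
    r ∈ denIdeal R B x ↔ ∃ b : B, algebraMap B K b = r • x := Iff.rfl

/-- Submodules of `Frac B` with denominators of height at least `ht P + 2` are finite. -/
theorem module_finite (hCM : LocCoh.IsCohenMacaulayRing R)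
    (hsurj : Function.Surjective (algebraMap R B)) (H : Submodule R K)
    (hH : ∀ x ∈ H, (RingHom.ker (algebraMap R B)).height + 2 ≤ (denIdeal R B x).height) :
    Module.Finite R H := by
  classical
  set P := RingHom.ker (algebraMap R B)
  haveI : P.IsPrime := RingHom.ker_isPrime _
  obtain ⟨rs, hreg, hrs, hlen, m, hm⟩ := exists_regular_seq hCM P
  let M := R ⧸ (Ideal.ofList rs • ⊤ : Submodule R R)
  have hK : ∀ r : R, algebraMap R K r = 0 ↔ r ∈ P := fun r => by
    rw [IsScalarTower.algebraMap_apply R B K, map_eq_zero_iff _ (IsFractionRing.injective B K),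
      RingHom.mem_ker]
  have hnum : ∀ (x : K) (r : R), r ∈ denIdeal R B x → ∃ r' : R, algebraMap R K r' = r • x := by
    intro x r hr
    obtain ⟨b, hb⟩ := (mem_denIdeal x r).1 hr
    obtain ⟨r', rfl⟩ := hsurj b
    exact ⟨r', by rw [IsScalarTower.algebraMap_apply R B K, hb]⟩
  have hkerden : ∀ x : K, P ≤ denIdeal R B x := fun x r hr => (mem_denIdeal x r).2
    ⟨0, by rw [map_zero, Algebra.smul_def, (hK r).2 hr, zero_mul]⟩
  -- a nonzerodivisor on `M` among the denominators of finitely many elements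
  have hnzd : ∀ A : Ideal R, P ≤ A → (P.height + 2 ≤ A.height) →
      ∃ a ∈ A, IsSMulRegular M a ∧ (A ≠ ⊤ → ∃ b ∈ A, IsSMulRegular (QuotSMulTop a M) b) := by
    intro A hPA hA
    by_cases hne : A = ⊤
    · exact ⟨1, hne ▸ trivial, IsSMulRegular.one M, fun h => absurd hne h⟩
    · rw [← hlen] at hA
      obtain ⟨a, ha, b, hb, h1, h2⟩ := exists_pair hCM hreg A (fun r hr => hPA (hrs r hr)) hA hne
      exact ⟨a, ha, h1, fun _ => ⟨b, hb, h2⟩⟩
  let W : K → M → Prop := fun x w => ∀ r r' : R, algebraMap R K r' = r • x → r' • m = r • w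
  have hW : ∀ x ∈ H, ∃ w, W x w := by
    intro x hx
    by_cases hne : denIdeal R B x = ⊤
    · obtain ⟨x', hx'⟩ := hnum x 1 (hne ▸ trivial)
      rw [one_smul] at hx'
      refine ⟨x' • m, fun r r' hr => ?_⟩
      rw [← mul_smul, ← sub_eq_zero, ← sub_smul, hm, ← hK, map_sub, map_mul, hr, hx', Algebra.smul_def,
        sub_self]
    obtain ⟨a, ha, hareg, hb⟩ := hnzd _ (hkerden x) (hH x hx)
    obtain ⟨b, hb, hbreg⟩ := hb hne
    obtain ⟨a', ha'⟩ := hnum x a ha
    obtain ⟨b', hb'⟩ := hnum x b hb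
    have hab : a • (b' • m) = b • (a' • m) := by
      rw [← mul_smul, ← mul_smul, ← sub_eq_zero, ← sub_smul, hm, ← hK, map_sub, map_mul, map_mul,
        ha', hb', Algebra.smul_def, Algebra.smul_def, mul_left_comm, sub_self]
    have h0 : b • (Submodule.Quotient.mk (a' • m) : QuotSMulTop a M) =
        b • (0 : QuotSMulTop a M) := by
      rw [smul_zero, ← Submodule.Quotient.mk_smul, Submodule.Quotient.mk_eq_zero, ← hab]
      exact Submodule.smul_mem_pointwise_smul _ _ _ trivial
    obtain ⟨w, -, hw⟩ := (Submodule.mem_smul_pointwise_iff_exists _ _ _).1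
      ((Submodule.Quotient.mk_eq_zero _).1 (hbreg h0))
    refine ⟨w, fun r r' hr => hareg ?_⟩
    show a • (r' • m) = a • (r • w)
    rw [smul_comm a r w, hw, ← mul_smul, ← mul_smul, ← sub_eq_zero, ← sub_smul, hm, ← hK, map_sub,
      map_mul, map_mul, hr, ha', Algebra.smul_def, Algebra.smul_def, mul_left_comm, sub_self]
  choose w hw using hW
  have hmul : ∀ x y : K, x ∈ H → y ∈ H → ∃ a, a ∈ denIdeal R B x ∧ a ∈ denIdeal R B y ∧
      IsSMulRegular M a := by
    intro x y hx hy
    obtain ⟨a, ha, hareg, -⟩ := hnzd _ (hkerden x) (hH x hx)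
    obtain ⟨b, hb, hbreg, -⟩ := hnzd _ (hkerden y) (hH y hy)
    exact ⟨a * b, Ideal.mul_mem_right _ _ ha, Ideal.mul_mem_left _ _ hb, hareg.mul hbreg⟩
  have huniq : ∀ x (hx : x ∈ H) (v : M), W x v → v = w x hx := by
    intro x hx v hv
    obtain ⟨a, ha, -, hareg⟩ := hmul x x hx hx
    obtain ⟨a', ha'⟩ := hnum x a ha
    exact hareg ((hv a a' ha').symm.trans (hw x hx a a' ha'))
  let L : H →ₗ[R] M :=
    { toFun := fun x => w x.1 x.2
      map_add' := fun x y => (huniq _ _ _ fun r r' hr => by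
        obtain ⟨a, hax, hay, hareg⟩ := hmul x.1 y.1 x.2 y.2
        obtain ⟨a₁, h₁⟩ := hnum x.1 a hax
        obtain ⟨a₂, h₂⟩ := hnum y.1 a hay
        apply hareg
        show a • (r' • m) = a • (r • (w x.1 x.2 + w y.1 y.2))
        rw [smul_comm a r, smul_add a, ← hw x.1 x.2 a a₁ h₁, ← hw y.1 y.2 a a₂ h₂, ← add_smul, ← mul_smul,
          ← mul_smul, ← sub_eq_zero, ← sub_smul, hm, ← hK, map_sub, map_mul, map_mul, map_add, hr, h₁, h₂]
        simp only [Algebra.smul_def, Submodule.coe_add]
        ring).symm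
      map_smul' := fun c x => (huniq _ _ _ fun r r' hr => by
        obtain ⟨a, hax, -, hareg⟩ := hmul x.1 x.1 x.2 x.2
        obtain ⟨a₁, h₁⟩ := hnum x.1 a hax
        apply hareg
        show a • (r' • m) = a • (r • (c • w x.1 x.2))
        rw [smul_comm a r, smul_comm a c, ← hw x.1 x.2 a a₁ h₁, ← mul_smul, ← mul_smul, ← mul_smul,
          ← sub_eq_zero, ← sub_smul, hm, ← hK, map_sub, map_mul, map_mul, map_mul, hr, h₁]
        simp only [Algebra.smul_def, Submodule.coe_smul]
        ring).symm }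
  have hL : Function.Injective L := by
    refine (injective_iff_map_eq_zero L).2 fun x hx => ?_
    obtain ⟨a, hax, -, hareg⟩ := hmul x.1 x.1 x.2 x.2
    obtain ⟨a', ha'⟩ := hnum x.1 a hax
    have hw0 : w x.1 x.2 = 0 := hx
    have hP : a' ∈ P := by rw [← hm, hw x.1 x.2 a a' ha', hw0, smul_zero]
    rw [← hK, ha', Algebra.smul_def] at hP
    have hane : algebraMap R K a ≠ 0 := fun h0 => by
      have hm0 : m ≠ 0 := fun h => Ideal.IsPrime.ne_top ‹P.IsPrime›
        (P.eq_top_iff_one.2 ((hm 1).1 (by rw [h, smul_zero])))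
      exact hm0 (hareg (by show a • m = a • 0; rw [smul_zero, (hm a).2 ((hK a).1 h0)]))
    letI : Field K := IsFractionRing.toField B
    exact Subtype.ext ((mul_eq_zero.1 hP).resolve_left hane)
  exact Module.Finite.of_injective L hL

end Groth.Agent.HullFin
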