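import Groth.Prelude.Def_EGA4b
import Groth.Agent.HullFin.Basic
import Groth.Agent.GeomFieldLib.CMTensor
import Groth.Agent.S2666
import Groth.Agent.Props.N2Local
import Mathlib

/-!
# Sections over the complement of a closed set of codimension at least two
-/

set_option autoImplicit false
set_option linter.style.haveILetI false

universe u

namespace Groth.Agent.HullFin

variable {B : Type u} [CommRing B] [IsDomain B] (J : Ideal B)

/-- The elements of `Frac B` regular outside `V(J)`. -/
def secSubalgebra : Subalgebra B (FractionRing B) where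
  carrier := {x | ∀ (p : Ideal B) [p.IsPrime], ¬ J ≤ p →
    ∃ s : B, s ∉ p ∧ ∃ a : B, algebraMap B (FractionRing B) a = algebraMap B (FractionRing B) s * x}
  mul_mem' := fun {x y} hx hy p hp hJ => by
    obtain ⟨s, hs, a, ha⟩ := @hx p hp hJ
    obtain ⟨t, ht, b, hb⟩ := @hy p hp hJ
    exact ⟨s * t, fun h => (hp.mem_or_mem h).elim hs ht, a * b,
      by rw [map_mul, map_mul, ha, hb]; ring⟩
  add_mem' := fun {x y} hx hy p hp hJ => by
    obtain ⟨s, hs, a, ha⟩ := @hx p hp hJ
    obtain ⟨t, ht, b, hb⟩ := @hy p hp hJ
    exact ⟨s * t, fun h => (hp.mem_or_mem h).elim hs ht, a * t + b * s,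
      by rw [map_add, map_mul, map_mul, map_mul, ha, hb]; ring⟩
  algebraMap_mem' := fun b p hp _ => ⟨1, fun h => hp.ne_top (p.eq_top_iff_one.2 h), b,
    by rw [map_one, one_mul]⟩

theorem height_add_le_comap {R : Type u} [CommRing R] [IsNoetherianRing R] {f : R →+* B}
    (hf : Function.Surjective f) (Q : Ideal B) [Q.IsPrime] (hQ : (2 : ℕ∞) ≤ Q.height) :
    (RingHom.ker f).height + 2 ≤ (Q.comap f).height := by
  haveI : (RingHom.ker f).IsPrime := RingHom.ker_isPrime f
  have h2 : (1 : ℕ∞) < Order.height (⟨Q, ‹_›⟩ : PrimeSpectrum B) := by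
    rw [← PrimeSpectrum.height_eq_orderHeight]
    exact lt_of_lt_of_le (by norm_num) hQ
  obtain ⟨y, z, hzy, hyQ⟩ := Order.one_lt_height_iff.1 h2
  have hlt : ∀ {U V : Ideal B}, U < V → U.comap f < V.comap f := fun {U V} h =>
    lt_of_le_of_ne (Ideal.comap_mono h.le) fun e => h.ne (Ideal.comap_injective_of_surjective f hf e)
  haveI : (y.asIdeal.comap f).IsPrime := Ideal.IsPrime.comap f
  haveI : (Q.comap f).IsPrime := Ideal.IsPrime.comap f
  have hne : ⊥ < y.asIdeal := lt_of_le_of_lt (bot_le : (⊥ : Ideal B) ≤ z.asIdeal) hzy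
  have h1 : (RingHom.ker f).height < (y.asIdeal.comap f).height :=
    Ideal.height_strict_mono_of_isPrime (by rw [RingHom.ker_eq_comap_bot]; exact hlt hne)
  have h3 : (y.asIdeal.comap f).height < (Q.comap f).height :=
    Ideal.height_strict_mono_of_isPrime (hlt hyQ)
  have e1 := Order.add_one_le_of_lt h1
  have e2 := Order.add_one_le_of_lt h3
  calc (RingHom.ker f).height + 2 = (RingHom.ker f).height + 1 + 1 := by rw [add_assoc]; norm_num
    _ ≤ (y.asIdeal.comap f).height + 1 := add_le_add e1 le_rfl
    _ ≤ _ := e2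

theorem finite_secSubalgebra_of_cm [IsNoetherianRing B] (hJ : (2 : ℕ∞) ≤ J.height) {R : Type u}
    [CommRing R] [IsNoetherianRing R] (hCM : LocCoh.IsCohenMacaulayRing R) (f : R →+* B)
    (hf : Function.Surjective f) : Module.Finite B (secSubalgebra J) := by
  letI : Algebra R B := f.toAlgebra
  let H : Submodule R (FractionRing B) := (secSubalgebra J).toSubmodule.restrictScalars R
  have hfin : Module.Finite R H := module_finite hCM hf H fun x hx => by
    conv_rhs => rw [Ideal.height_eq_inf_minimalPrimes]
    refine le_iInf₂ fun Q hQ => ?_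
    haveI := hQ.1.1
    have hker : RingHom.ker f ≤ Q := le_trans (fun r (hr : f r = 0) => (mem_denIdeal x r).2
      ⟨0, by
        rw [map_zero, Algebra.smul_def]
        show (0 : FractionRing B) = algebraMap B (FractionRing B) (f r) * x
        rw [hr, map_zero, zero_mul]⟩) hQ.1.2
    have hp : (Q.map f).IsPrime := Ideal.map_isPrime_of_surjective hf hker
    have hback : (Q.map f).comap f = Q := by
      rw [Ideal.comap_map_of_surjective f hf, ← RingHom.ker_eq_comap_bot, sup_eq_left.2 hker]
    have hJQ : J ≤ Q.map f := by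
      by_contra h
      obtain ⟨s, hs, a, ha⟩ := @hx (Q.map f) hp h
      obtain ⟨r, rfl⟩ := hf s
      exact hs (Ideal.mem_map_of_mem f (hQ.1.2 ((mem_denIdeal x r).2 ⟨a, by
        rw [ha, Algebra.smul_def]; rfl⟩)))
    have := height_add_le_comap hf (Q.map f) (hJ.trans (Ideal.height_mono hJQ))
    rw [hback] at this
    exact this
  haveI : Module.Finite R (secSubalgebra J) := hfin
  exact Module.Finite.of_restrictScalars_finite R B _

theorem finite_secSubalgebra_of_hull [IsNoetherianRing B] (hJ : (2 : ℕ∞) ≤ J.height)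
    (h : EGA4.HeightOneHullFinite B) : Module.Finite B (secSubalgebra J) := by
  obtain ⟨H, hH, hfin⟩ := h
  haveI : IsNoetherian B H := isNoetherian_of_isNoetherianRing_of_finite B H
  have hle : secSubalgebra J ≤ H := fun x hx => by
    show x ∈ (H : Set (FractionRing B))
    rw [hH]
    intro p hp h1
    exact @hx p hp fun hle => by
      have := hJ.trans (Ideal.height_mono hle)
      rw [h1] at this
      exact absurd this (by norm_num)
  exact Module.Finite.of_injective (Subalgebra.inclusion hle).toLinearMap (Subalgebra.inclusion_injective hle)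

end Groth.Agent.HullFin
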